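import Groth.Agent.L13.Isotrivial.HypScale
import Groth.Agent.L21.PlaneCurve.NotHyp
import Groth.Agent.L21.PlaneCurve.SmoothHyp
import Groth.Agent.L18.ProjSpace
import Groth.Agent.L16.ProjSpace.CoordSect
import Mathlib.RingTheory.Localization.Integer
import Mathlib.Algebra.Polynomial.RingDivision
import Groth.Agent.L21.RR.BaseChange
import Groth.Prelude.Def_ModFun

/-!
The cubics `X₀³ + c X₁³ + c² X₂³ + a c X₀X₁X₂`: smooth, of genus one, and without rational points
when `c` is the variable of a rational function field.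
-/

set_option autoImplicit false
set_option backward.isDefEq.respectTransparency false
set_option linter.style.haveILetI false
universe u

open CategoryTheory CategoryTheory.Limits AlgebraicGeometry TopologicalSpace MvPolynomial

noncomputable section

namespace Groth.Agent.L13.Isotrivial

variable {K : Type u} [Field K] {L : Type u} [Field L]

/-- the admissible parameters -/
def Adm (a : K) : Prop := (a = 0 ∧ (3 : K) ≠ 0) ∨ (a = 1 ∧ (3 : K) = 0)

lemma Adm.map {a : K} (h : Adm a) (φ : K →+* L) : Adm (φ a) := by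
  have h3 : (3 : L) = φ 3 := (map_ofNat φ 3).symm
  rcases h with ⟨rfl, h⟩ | ⟨rfl, h⟩
  · exact Or.inl ⟨map_zero φ, h3 ▸ (map_ne_zero φ).mpr h⟩
  · exact Or.inr ⟨map_one φ, by rw [h3, h, map_zero]⟩

lemma exists_adm (K : Type u) [Field K] : ∃ a : K, Adm a := by
  by_cases h : (3 : K) = 0
  · exact ⟨1, Or.inr ⟨rfl, h⟩⟩
  · exact ⟨0, Or.inl ⟨rfl, h⟩⟩

/-- the cubic polynomial -/
def cubicPoly (c a : K) : MvPolynomial (Fin (2 + 1)) K :=
  X 0 ^ 3 + C c * X 1 ^ 3 + C (c ^ 2) * X 2 ^ 3 + C (a * c) * (X 0 * X 1 * X 2)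

/-- the cubic form -/
def cubic (c a : K) : LefPen.Form 2 K 3 :=
  ⟨cubicPoly c a, by
    rw [CohB1.polyGrading, mem_homogeneousSubmodule]
    refine (((isHomogeneous_X_pow _ _).add ?_).add ?_).add ?_
    · exact (isHomogeneous_X_pow _ _).C_mul _
    · exact (isHomogeneous_X_pow _ _).C_mul _
    · exact (((isHomogeneous_X K _).mul (isHomogeneous_X K _)).mul (isHomogeneous_X K _)).C_mul _⟩

lemma eval_cubic (c a : K) (b : Fin (2 + 1) → K) :
    eval b (cubic c a).1 = b 0 ^ 3 + c * b 1 ^ 3 + c ^ 2 * b 2 ^ 3 + a * c * (b 0 * b 1 * b 2) := by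
  simp [cubic, cubicPoly]

lemma cubic_ne_zero (c a : K) : cubic c a ≠ 0 := fun h => by
  have := congrArg (fun G : LefPen.Form 2 K 3 => eval ![1, 0, 0] G.1) h
  simp [eval_cubic] at this

lemma scForm_cubic (φ : K →+* L) (w : Fin (2 + 1) → L) (c a : K) (c' a' : L) (h0 : w 0 = 1)
    (h1 : φ c * w 1 ^ 3 = c') (h2 : φ (c ^ 2) * w 2 ^ 3 = c' ^ 2) (h3 : φ (a * c) * (w 1 * w 2) = a' * c') :
    scForm φ w (cubic c a) = cubic c' a' := by
  refine Subtype.ext ?_
  show scG φ w (cubicPoly c a) = cubicPoly c' a'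
  simp only [cubicPoly, scG_apply, map_add, map_mul, map_pow, eval₂Hom_C, eval₂Hom_X', RingHom.comp_apply, h0, C_1,
    one_mul]
  have e1 : (C c' : MvPolynomial (Fin (2 + 1)) L) = C (φ c) * C (w 1) ^ 3 := by
    rw [← h1, map_mul, map_pow]
  have e2 : (C c' : MvPolynomial (Fin (2 + 1)) L) ^ 2 = C (φ c) ^ 2 * C (w 2) ^ 3 := by
    rw [← map_pow, ← h2, map_mul, map_pow, map_pow, map_pow]
  have e3 : (C a' : MvPolynomial (Fin (2 + 1)) L) * C c' = C (φ a) * C (φ c) * (C (w 1) * C (w 2)) := by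
    rw [← map_mul, ← h3]; simp only [map_mul]
  rw [e3, e2, e1]
  ring

lemma eval_dehom {n : ℕ} (i : Fin (n + 1)) (z : Groth.L16.ProjSpace.ChartVar n i → K)
    (p : MvPolynomial (Fin (n + 1)) K) :
    eval z (Groth.L16.ProjSpace.dehom n K i p) = eval (fun j => if h : j = i then 1 else z ⟨j, h⟩) p := by
  have e : ((eval z).comp (Groth.L16.ProjSpace.dehom n K i).toRingHom) =
      eval (fun j => if h : j = i then 1 else z ⟨j, h⟩) := by
    refine MvPolynomial.ringHom_ext (fun a => by simp) (fun j => ?_)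
    by_cases h : j = i <;> simp [Groth.L16.ProjSpace.dehom, h]
  exact congr($e p)

theorem smooth_cubic {c a : K} (hc : c ≠ 0) (ha : Adm a) : Smooth (hypHom (cubic c a)) := by
  rw [Groth.L21.PlaneCurve.smooth_hyp_iff]
  intro i
  have hne : Groth.L16.ProjSpace.dehom 2 K i (cubic c a).1 ≠ 0 := by
    intro h
    have := congrArg (eval (fun _ => (0 : K))) h
    rw [eval_dehom, map_zero, eval_cubic] at this
    obtain rfl | rfl | rfl : i = 0 ∨ i = 1 ∨ i = 2 := by fin_cases i <;> simp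
    all_goals simp [hc] at this
  refine (Groth.L21.Jacobian.smooth_quot_iff (Ideal.Quotient.mkₐ K _) Ideal.Quotient.mk_surjective _ hne
    (Ideal.Quotient.mkₐ_ker K _)).2 fun q hq hg => ?_
  by_contra hall
  push Not at hall
  have hu : ∀ (e : K), e ≠ 0 → (C e : MvPolynomial (Groth.L16.ProjSpace.ChartVar 2 i) K) ∉ q := fun e he hm =>
    hq.ne_top (Ideal.eq_top_of_isUnit_mem q hm ((isUnit_iff_ne_zero.2 he).map _))
  have hu1 : (1 : MvPolynomial (Groth.L16.ProjSpace.ChartVar 2 i) K) ∉ q := fun hm =>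
    hq.ne_top ((Ideal.eq_top_iff_one q).2 hm)
  have h2 : c ^ 2 ≠ 0 := pow_ne_zero _ hc
  obtain rfl | rfl | rfl : i = 0 ∨ i = 1 ∨ i = 2 := by fin_cases i <;> simp
  · let y : MvPolynomial (Groth.L16.ProjSpace.ChartVar 2 0) K := X ⟨1, by decide⟩
    let z : MvPolynomial (Groth.L16.ProjSpace.ChartVar 2 0) K := X ⟨2, by decide⟩
    have g0 : Groth.L16.ProjSpace.dehom 2 K 0 (cubic c a).1 =
        1 + C c * y ^ 3 + C (c ^ 2) * z ^ 3 + C (a * c) * (y * z) := by
      simp [cubic, cubicPoly, Groth.L16.ProjSpace.dehom, y, z]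
    have dy := hall ⟨1, by decide⟩
    have dz := hall ⟨2, by decide⟩
    rw [g0] at dy dz hg
    have hy : y ∈ q ∧ z ∈ q := by
      rcases ha with ⟨rfl, h3⟩ | ⟨rfl, h3⟩
      · simp [y, z, pderiv_X, Pi.single_apply] at dy dz
        have e3 : (3 : MvPolynomial (Groth.L16.ProjSpace.ChartVar 2 0) K) = C 3 := (map_ofNat _ 3).symm
        rw [e3] at dy dz
        refine ⟨hq.mem_of_pow_mem 2 ?_, hq.mem_of_pow_mem 2 ?_⟩
        · refine (hq.mem_or_mem (?_ : C (c * 3) * y ^ 2 ∈ q)).resolve_left (hu _ (mul_ne_zero hc h3))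
          convert dy using 1; simp only [map_mul, y]; ring
        · refine (hq.mem_or_mem (?_ : C (c ^ 2 * 3) * z ^ 2 ∈ q)).resolve_left (hu _ (mul_ne_zero h2 h3))
          convert dz using 1; simp only [map_mul, map_pow, z]; ring
      · have e3 : (3 : MvPolynomial (Groth.L16.ProjSpace.ChartVar 2 0) K) = 0 := by
          rw [← map_ofNat (C : K →+* MvPolynomial (Groth.L16.ProjSpace.ChartVar 2 0) K) 3, h3, map_zero]
        simp [y, z, pderiv_X, Pi.single_apply, e3] at dy dz
        exact ⟨(hq.mem_or_mem dz).resolve_left (hu c hc), (hq.mem_or_mem dy).resolve_left (hu c hc)⟩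
    refine hu1 ?_
    convert sub_mem hg (add_mem (add_mem (q.mul_mem_left (C c * y ^ 2) hy.1) (q.mul_mem_left (C (c ^ 2) * z ^ 2) hy.2))
      (q.mul_mem_left (C (a * c) * z) hy.1)) using 1
    ring
  · let x : MvPolynomial (Groth.L16.ProjSpace.ChartVar 2 1) K := X ⟨0, by decide⟩
    let z : MvPolynomial (Groth.L16.ProjSpace.ChartVar 2 1) K := X ⟨2, by decide⟩
    have g1 : Groth.L16.ProjSpace.dehom 2 K 1 (cubic c a).1 =
        x ^ 3 + C c + C (c ^ 2) * z ^ 3 + C (a * c) * (x * z) := by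
      simp [cubic, cubicPoly, Groth.L16.ProjSpace.dehom, x, z]
    have dx := hall ⟨0, by decide⟩
    have dz := hall ⟨2, by decide⟩
    rw [g1] at dx dz hg
    have hx : x ∈ q ∧ z ∈ q := by
      rcases ha with ⟨rfl, h3⟩ | ⟨rfl, h3⟩
      · simp [x, z, pderiv_X, Pi.single_apply] at dx dz
        have e3 : (3 : MvPolynomial (Groth.L16.ProjSpace.ChartVar 2 1) K) = C 3 := (map_ofNat _ 3).symm
        rw [e3] at dx dz
        refine ⟨hq.mem_of_pow_mem 2 ?_, hq.mem_of_pow_mem 2 ?_⟩
        · refine (hq.mem_or_mem (?_ : C 3 * x ^ 2 ∈ q)).resolve_left (hu _ h3)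
          convert dx using 1
        · refine (hq.mem_or_mem (?_ : C (c ^ 2 * 3) * z ^ 2 ∈ q)).resolve_left (hu _ (mul_ne_zero h2 h3))
          convert dz using 1; simp only [map_mul, map_pow, z]; ring
      · have e3 : (3 : MvPolynomial (Groth.L16.ProjSpace.ChartVar 2 1) K) = 0 := by
          rw [← map_ofNat (C : K →+* MvPolynomial (Groth.L16.ProjSpace.ChartVar 2 1) K) 3, h3, map_zero]
        simp [x, z, pderiv_X, Pi.single_apply, e3] at dx dz
        exact ⟨(hq.mem_or_mem dz).resolve_left (hu c hc), (hq.mem_or_mem dx).resolve_left (hu c hc)⟩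
    refine hu c hc ?_
    convert sub_mem hg (add_mem (add_mem (q.mul_mem_left (x ^ 2) hx.1) (q.mul_mem_left (C (c ^ 2) * z ^ 2) hx.2))
      (q.mul_mem_left (C (a * c) * z) hx.1)) using 1
    ring
  · let x : MvPolynomial (Groth.L16.ProjSpace.ChartVar 2 2) K := X ⟨0, by decide⟩
    let y : MvPolynomial (Groth.L16.ProjSpace.ChartVar 2 2) K := X ⟨1, by decide⟩
    have g2 : Groth.L16.ProjSpace.dehom 2 K 2 (cubic c a).1 =
        x ^ 3 + C c * y ^ 3 + C (c ^ 2) + C (a * c) * (x * y) := by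
      simp [cubic, cubicPoly, Groth.L16.ProjSpace.dehom, x, y]
    have dx := hall ⟨0, by decide⟩
    have dy := hall ⟨1, by decide⟩
    rw [g2] at dx dy hg
    have hx : x ∈ q ∧ y ∈ q := by
      rcases ha with ⟨rfl, h3⟩ | ⟨rfl, h3⟩
      · simp [x, y, pderiv_X, Pi.single_apply] at dx dy
        have e3 : (3 : MvPolynomial (Groth.L16.ProjSpace.ChartVar 2 2) K) = C 3 := (map_ofNat _ 3).symm
        rw [e3] at dx dy
        refine ⟨hq.mem_of_pow_mem 2 ?_, hq.mem_of_pow_mem 2 ?_⟩
        · refine (hq.mem_or_mem (?_ : C 3 * x ^ 2 ∈ q)).resolve_left (hu _ h3)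
          convert dx using 1
        · refine (hq.mem_or_mem (?_ : C (c * 3) * y ^ 2 ∈ q)).resolve_left (hu _ (mul_ne_zero hc h3))
          convert dy using 1; simp only [map_mul, y]; ring
      · have e3 : (3 : MvPolynomial (Groth.L16.ProjSpace.ChartVar 2 2) K) = 0 := by
          rw [← map_ofNat (C : K →+* MvPolynomial (Groth.L16.ProjSpace.ChartVar 2 2) K) 3, h3, map_zero]
        simp [x, y, pderiv_X, Pi.single_apply, e3] at dx dy
        exact ⟨(hq.mem_or_mem dy).resolve_left (hu c hc), (hq.mem_or_mem dx).resolve_left (hu c hc)⟩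
    refine hu _ h2 ?_
    convert sub_mem hg (add_mem (add_mem (q.mul_mem_left (x ^ 2) hx.1) (q.mul_mem_left (C c * y ^ 2) hx.2))
      (q.mul_mem_left (C (a * c) * y) hx.1)) using 1
    ring

/-- Facts about one cubic. -/
theorem cubic_facts {c a : K} (hc : c ≠ 0) (ha : Adm a) :
    letI : (LefPen.hypIdeal (cubic c a)).subscheme.Over (Spec (CommRingCat.of K)) := ⟨hypHom (cubic c a)⟩
    IsProper (hypHom (cubic c a)) ∧ IrreducibleSpace (LefPen.hypIdeal (cubic c a)).subscheme ∧
      topologicalKrullDim (LefPen.hypIdeal (cubic c a)).subscheme = 1 ∧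
      Curv2.genus K (LefPen.hypIdeal (cubic c a)).subscheme = 1 := by
  letI : (LefPen.hypIdeal (cubic c a)).subscheme.Over (Spec (CommRingCat.of K)) := ⟨hypHom (cubic c a)⟩
  haveI : Smooth ((LefPen.hypIdeal (cubic c a)).subscheme ↘ Spec (CommRingCat.of K)) := smooth_cubic hc ha
  obtain ⟨h1, h2⟩ := Groth.L21.PlaneCurve.plane_facts (cubic c a) (cubic_ne_zero c a) rfl le_rfl
  haveI := h1
  exact ⟨Groth.L21.PlaneCurve.isProper_plane (cubic c a) rfl, inferInstance, h2,
    (Groth.L21.PlaneCurve.h1_structure (cubic c a) (cubic_ne_zero c a) rfl)⟩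

lemma genus_congr {X Y : Scheme.{u}} (e : X ≅ Y) (p : X ⟶ Spec (CommRingCat.of K)) (q : Y ⟶ Spec (CommRingCat.of K))
    [IsProper q] (h : e.hom ≫ q = p) :
    (letI : X.Over (Spec (CommRingCat.of K)) := ⟨p⟩; Curv2.genus K X) =
      (letI : Y.Over (Spec (CommRingCat.of K)) := ⟨q⟩; Curv2.genus K Y) := by
  letI : X.Over (Spec (CommRingCat.of K)) := ⟨p⟩
  letI : Y.Over (Spec (CommRingCat.of K)) := ⟨q⟩
  haveI : IsProper (Y ↘ Spec (CommRingCat.of K)) := ‹IsProper q›
  refine Groth.L21.RR.genus_bc e.hom ?_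
  rw [Algebra.algebraMap_self, show CommRingCat.ofHom (RingHom.id K) = 𝟙 (CommRingCat.of K) from rfl, Spec.map_id]
  exact IsPullback.of_horiz_isIso ⟨by rw [Category.comp_id]; exact h⟩

/-- A curve isomorphic to one of the cubics is of genus one. -/
theorem isCurveOfGenus_cubic {c a : K} (hc : c ≠ 0) (ha : Adm a) :
    ModFun.IsCurveOfGenus 1 (hypHom (cubic c a)) := by
  have hbc : ∀ (Ω : Type u) [Field Ω] (φ : K →+* Ω) (X : Scheme.{u}) (i : X ⟶ (LefPen.hypIdeal (cubic c a)).subscheme)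
      (q : X ⟶ Spec (CommRingCat.of Ω)), IsPullback i q (hypHom (cubic c a)) (Spec.map (CommRingCat.ofHom φ)) →
      ∃ e : X ≅ (LefPen.hypIdeal (cubic (φ c) (φ a))).subscheme, e.hom ≫ hypHom (cubic (φ c) (φ a)) = q := by
    intro Ω _ φ X i q h
    obtain ⟨g, hg⟩ := exists_isPullback_hyp φ (fun _ : Fin (2 + 1) => (1 : Ω)) (fun _ => one_ne_zero) (cubic c a)
    have e := scForm_cubic φ (fun _ : Fin (2 + 1) => (1 : Ω)) c a (φ c) (φ a) rfl (by simp) (by simp) (by simp)
    obtain ⟨g', hg'⟩ : ∃ g', IsPullback g' (hypHom (cubic (φ c) (φ a))) (hypHom (cubic c a))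
        (Spec.map (CommRingCat.ofHom φ)) := by
      rw [← e]; exact ⟨g, hg⟩
    exact ⟨h.isoIsPullback _ _ hg', IsPullback.isoIsPullback_hom_snd _ _ _ _⟩
  obtain ⟨hp, -, -, -⟩ := cubic_facts hc ha
  refine ⟨smooth_cubic hc ha, hp, ⟨geometrically_iff_of_isClosedUnderIsomorphisms.mpr fun Ω _ y => ?_⟩, ?_⟩
  · obtain ⟨φ, rfl⟩ := Spec.map_surjective y
    obtain ⟨e, -⟩ := hbc Ω φ.hom _ _ _ (IsPullback.of_hasPullback _ _)
    obtain ⟨-, hi, -, -⟩ := cubic_facts ((map_ne_zero φ.hom).mpr hc) (ha.map φ.hom)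
    exact e.hom.homeomorph.irreducibleSpace_iff.mpr hi
  · intro Ω _ _ t X i q h
    obtain ⟨φ, rfl⟩ := Spec.map_surjective t
    obtain ⟨e, he⟩ := hbc Ω φ.hom X i q h
    obtain ⟨hpr, -, hdim, hgen⟩ := cubic_facts ((map_ne_zero φ.hom).mpr hc) (ha.map φ.hom)
    haveI := hpr
    exact ⟨(e.hom.homeomorph.isHomeomorph.topologicalKrullDim_eq _).trans hdim,
      (genus_congr e q _ he).trans hgen⟩

section Points

open Groth.L18.PS (tuplePt chartHom)

theorem tuplePt_appLE_dehom {r d : ℕ} (G : LefPen.Form r K d) (b : Fin (r + 1) → K) (i : Fin (r + 1))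
    (hu : IsUnit (b i))
    (hW : ⊤ ≤ tuplePt (B := CommRingCat.of K) (RingHom.id K) b i hu ⁻¹ᵁ LefPen.chart r K i) :
    ∃ z : K, z * b i ^ d = eval b G.1 ∧
      (tuplePt (B := CommRingCat.of K) (RingHom.id K) b i hu).appLE (LefPen.chart r K i) ⊤ hW (LefPen.dehom G i) =
        (Scheme.ΓSpecIso (CommRingCat.of K)).inv z := by
  set w := HomogeneousLocalization.Away.mk (CohB1.polyGrading r K) (LefPen.X_mem r K i) d G.1
    (by rw [smul_eq_mul, mul_one]; exact G.2) with hw
  refine ⟨chartHom (RingHom.id K) b i hu w, ?_, ?_⟩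
  · have := Groth.L18.PS.awayEval_mk (RingHom.id K) b (X i) (Groth.L18.PS.isUnit_eval_X _ b hu)
      (LefPen.X_mem r K i) d G.1 (by rw [smul_eq_mul, mul_one]; exact G.2)
    rw [eval₂Hom_X'] at this
    exact this
  · have eT : tuplePt (B := CommRingCat.of K) (RingHom.id K) b i hu =
        Spec.map (CommRingCat.ofHom (chartHom (RingHom.id K) b i hu)) ≫ Groth.L16.ProjSpace.chartAway r K i := rfl
    revert hW
    rw [eT]
    generalize chartHom (RingHom.id K) b i hu = φ
    intro hW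
    have h1 : ⊤ ≤ Groth.L16.ProjSpace.chartAway r K i ⁻¹ᵁ LefPen.chart r K i := fun z _ =>
      (Groth.L16.ProjSpace.opensRange_chartAway r K i).le ⟨z, rfl⟩
    have e2 : (Groth.L16.ProjSpace.chartAway r K i).appLE (LefPen.chart r K i) ⊤ h1 (LefPen.dehom G i) =
        (Scheme.ΓSpecIso (CommRingCat.of (Groth.L16.ProjSpace.AwayX r K i))).inv w :=
      congr($(Groth.L16.ProjSpace.chartAway_appLE r K i h1) w)
    have e3 := Scheme.Hom.appLE_comp_appLE (Spec.map (CommRingCat.ofHom φ)) (Groth.L16.ProjSpace.chartAway r K i)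
      (LefPen.chart r K i) ⊤ ⊤ h1 le_top
    have e4 := congr($(Scheme.ΓSpecIso_inv_naturality (CommRingCat.ofHom φ)) w)
    have e5 : (Spec.map (CommRingCat.ofHom φ)).appLE ⊤ ⊤ le_top = (Spec.map (CommRingCat.ofHom φ)).appTop :=
      (Scheme.Hom.app_eq_appLE _).symm
    rw [← e3, CommRingCat.comp_apply, e2, e5]
    exact e4.symm

theorem preimage_chart {r : ℕ} (b : Fin (r + 1) → K) (i : Fin (r + 1)) (hu : IsUnit (b i)) (j : Fin (r + 1)) :
    tuplePt (B := CommRingCat.of K) (RingHom.id K) b i hu ⁻¹ᵁ LefPen.chart r K j =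
      PrimeSpectrum.basicOpen (b j) :=
  Groth.L18.PS.tuplePt_preimage_X (B := CommRingCat.of K) (RingHom.id K) b i hu j

theorem section_gives_zero {r d : ℕ} (G : LefPen.Form r K d)
    (s : Spec (CommRingCat.of K) ⟶ (LefPen.hypIdeal G).subscheme) (hs : s ≫ hypHom G = 𝟙 _) :
    ∃ b : Fin (r + 1) → K, (∃ i, b i = 1) ∧ eval b G.1 = 0 := by
  let h := s ≫ (LefPen.hypIdeal G).subschemeι
  let pt : ↥(Spec (CommRingCat.of K)) := IsLocalRing.closedPoint K
  obtain ⟨i, hi⟩ := Groth.L21.PlaneCurve.exists_mem_chart (h pt)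
  obtain ⟨τ, b, hu, hh, hbi⟩ := Groth.L18.PS.exists_tuplePt h i (fun x => by
    rw [show x = pt from Subsingleton.elim (α := PrimeSpectrum K) _ _]; exact hi)
  have hτ : τ = RingHom.id K := by
    have h1 : h ≫ CohB1.ProjSpace.toSpec r K = 𝟙 _ := by simpa [h, hypHom] using hs
    rw [hh, Groth.L18.PS.tuplePt_toSpec, ← Spec.map_id] at h1
    exact congrArg CommRingCat.Hom.hom (Spec.map_injective h1)
  subst hτ
  refine ⟨b, ⟨i, hbi⟩, ?_⟩
  have hW : ⊤ ≤ tuplePt (B := CommRingCat.of K) (RingHom.id K) b i hu ⁻¹ᵁ LefPen.chart r K i := by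
    rw [preimage_chart, Groth.L18.PS.basicOpen_eq_top_of_isUnit hu]
  obtain ⟨z, hz, hz'⟩ := tuplePt_appLE_dehom G b i hu hW
  have h0 := (factors_iff G h).mp ⟨s, rfl⟩ i
  rw [hh] at h0
  rw [Scheme.Hom.appLE] at hz'
  erw [CommRingCat.comp_apply, h0, map_zero] at hz'
  have : z = 0 := (Scheme.ΓSpecIso (CommRingCat.of K)).commRingCatIsoToRingEquiv.symm.injective
    (hz'.symm.trans (map_zero _).symm)
  rw [← hz, this, zero_mul]

theorem zero_gives_section {r d : ℕ} (G : LefPen.Form r K d) (b : Fin (r + 1) → K) (i : Fin (r + 1))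
    (hi : b i ≠ 0) (hb : eval b G.1 = 0) :
    ∃ s : Spec (CommRingCat.of K) ⟶ (LefPen.hypIdeal G).subscheme, s ≫ hypHom G = 𝟙 _ := by
  have hu : IsUnit (b i) := isUnit_iff_ne_zero.mpr hi
  let h : Spec (CommRingCat.of K) ⟶ CohB1.ProjSpace r K := tuplePt (B := CommRingCat.of K) (RingHom.id K) b i hu
  obtain ⟨s, hs⟩ := (factors_iff G h).mpr fun j => by
    by_cases hj : b j = 0
    · haveI : Subsingleton Γ(Spec (CommRingCat.of K), h ⁻¹ᵁ LefPen.chart r K j) := by
        rw [preimage_chart b i hu j, hj, PrimeSpectrum.basicOpen_zero]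
        exact CommRingCat.subsingleton_of_isTerminal (Spec (CommRingCat.of K)).sheaf.isTerminalOfEmpty
      exact Subsingleton.elim _ _
    · have huj : IsUnit (b j) := isUnit_iff_ne_zero.mpr hj
      have e : h = tuplePt (B := CommRingCat.of K) (RingHom.id K) b j huj :=
        Groth.L18.PS.tuplePt_chart_eq (B := CommRingCat.of K) (RingHom.id K) b i j hu huj
      rw [e]
      have htop : tuplePt (B := CommRingCat.of K) (RingHom.id K) b j huj ⁻¹ᵁ LefPen.chart r K j = ⊤ := by
        rw [preimage_chart, Groth.L18.PS.basicOpen_eq_top_of_isUnit huj]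
      obtain ⟨z, hz, hz'⟩ := tuplePt_appLE_dehom G b j huj htop.ge
      have hz0 : z = 0 := by
        rw [hb, mul_eq_zero] at hz
        exact hz.resolve_right (pow_ne_zero _ hj)
      rw [hz0, map_zero] at hz'
      have h2 : ∀ (W : (Spec (CommRingCat.of K)).Opens) (eq : W = tuplePt (B := CommRingCat.of K) (RingHom.id K) b j huj ⁻¹ᵁ LefPen.chart r K j),
          (tuplePt (B := CommRingCat.of K) (RingHom.id K) b j huj).appLE (LefPen.chart r K j) W eq.le (LefPen.dehom G j) = 0 →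
          (tuplePt (B := CommRingCat.of K) (RingHom.id K) b j huj).app (LefPen.chart r K j) (LefPen.dehom G j) = 0 := by
        rintro W rfl h
        rwa [Scheme.Hom.app_eq_appLE]
      exact h2 ⊤ htop.symm hz'
  refine ⟨s, ?_⟩
  rw [hypHom, ← Category.assoc, hs]
  exact (Groth.L18.PS.tuplePt_toSpec (B := CommRingCat.of K) (RingHom.id K) b i hu).trans (Spec.map_id _)

end Points

section NoZero

open Polynomial in
theorem no_zero_polynomial {k : Type u} [Field k] (a : k) : ∀ (N : ℕ) (x y z : k[X]),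
    x.natDegree + y.natDegree + z.natDegree ≤ N →
    x ^ 3 + Polynomial.X * y ^ 3 + Polynomial.X ^ 2 * z ^ 3 + Polynomial.C a * Polynomial.X * (x * y * z) = 0 →
    x = 0 ∧ y = 0 ∧ z = 0 := by
  intro N
  induction N using Nat.strong_induction_on with
  | _ N ih =>
    intro x y z hN h
    have hX : Prime (Polynomial.X : k[X]) := Polynomial.prime_X
    obtain ⟨x', rfl⟩ : Polynomial.X ∣ x := hX.dvd_of_dvd_pow (n := 3)
      ⟨-(y ^ 3 + Polynomial.X * z ^ 3 + Polynomial.C a * (x * y * z)), by linear_combination h⟩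
    have h' : Polynomial.X * (Polynomial.X ^ 2 * x' ^ 3 + y ^ 3 + Polynomial.X * z ^ 3 +
        Polynomial.C a * Polynomial.X * (x' * y * z)) = 0 := by linear_combination h
    replace h' := (mul_eq_zero.mp h').resolve_left hX.ne_zero
    obtain ⟨y', rfl⟩ : Polynomial.X ∣ y := hX.dvd_of_dvd_pow (n := 3)
      ⟨-(Polynomial.X * x' ^ 3 + z ^ 3 + Polynomial.C a * (x' * y * z)), by linear_combination h'⟩
    have h'' : Polynomial.X * (Polynomial.X * x' ^ 3 + Polynomial.X ^ 2 * y' ^ 3 + z ^ 3 +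
        Polynomial.C a * Polynomial.X * (x' * y' * z)) = 0 := by linear_combination h'
    replace h'' := (mul_eq_zero.mp h'').resolve_left hX.ne_zero
    obtain ⟨z', rfl⟩ : Polynomial.X ∣ z := hX.dvd_of_dvd_pow (n := 3)
      ⟨-(x' ^ 3 + Polynomial.X * y' ^ 3 + Polynomial.C a * (x' * y' * z)), by linear_combination h''⟩
    have hd : ∀ p : k[X], p = 0 ∨ (Polynomial.X * p).natDegree = p.natDegree + 1 := fun p =>
      (eq_or_ne p 0).imp_right fun hp => Polynomial.natDegree_X_mul hp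
    by_cases hall : x' = 0 ∧ y' = 0 ∧ z' = 0
    · obtain ⟨rfl, rfl, rfl⟩ := hall
      simp
    have e : Polynomial.X * (x' ^ 3 + Polynomial.X * y' ^ 3 + Polynomial.X ^ 2 * z' ^ 3 +
        Polynomial.C a * Polynomial.X * (x' * y' * z')) = 0 := by linear_combination h''
    have := (mul_eq_zero.mp e).resolve_left hX.ne_zero
    have hlt : x'.natDegree + y'.natDegree + z'.natDegree < N := by
      rcases hd x' with rfl | h1 <;> rcases hd y' with rfl | h2 <;> rcases hd z' with rfl | h3 <;>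
        first
        | (exact absurd ⟨rfl, rfl, rfl⟩ hall)
        | omega
        | (simp only [mul_zero, Polynomial.natDegree_zero] at *; omega)
    exact absurd (ih _ hlt x' y' z' le_rfl this) hall

theorem no_zero {k : Type u} [Field k] {F : Type u} [Field F] [Algebra (Polynomial k) F]
    [IsFractionRing (Polynomial k) F] (a : k) (b : Fin (2 + 1) → F)
    (hb : eval b (cubic (algebraMap (Polynomial k) F Polynomial.X) (algebraMap (Polynomial k) F (Polynomial.C a))).1 = 0) :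
    b = 0 := by
  obtain ⟨d, hd⟩ := IsLocalization.exist_integer_multiples_of_finite (nonZeroDivisors (Polynomial k)) b
  choose p hp using hd
  have hd0 : algebraMap (Polynomial k) F (d : Polynomial k) ≠ 0 :=
    IsFractionRing.to_map_ne_zero_of_mem_nonZeroDivisors d.2
  have hp' : ∀ i, algebraMap (Polynomial k) F (p i) = algebraMap (Polynomial k) F d * b i := fun i => by
    rw [hp i, Algebra.smul_def]
  rw [eval_cubic] at hb
  obtain ⟨h0, h1, h2⟩ := no_zero_polynomial a _ (p 0) (p 1) (p 2) le_rfl (by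
    apply IsFractionRing.injective (Polynomial k) F
    simp only [map_add, map_mul, map_pow, map_zero, hp']
    linear_combination (algebraMap (Polynomial k) F d) ^ 3 * hb)
  funext i
  have hi : p i = 0 := by fin_cases i <;> assumption
  have := hp' i
  rw [hi, map_zero] at this
  exact (mul_eq_zero.mp this.symm).resolve_left hd0

end NoZero

end Groth.Agent.L13.Isotrivial
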