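import Groth.Agent.L21.PlaneCurve.HypIdeal
import Groth.Agent.L16.ProjSpace.BaseChange

/-!
Semilinear diagonal coordinate changes of projective space and the base change of hypersurfaces along them.
-/

set_option autoImplicit false
set_option backward.isDefEq.respectTransparency false
set_option linter.style.haveILetI false
universe u

open CategoryTheory CategoryTheory.Limits AlgebraicGeometry TopologicalSpace Opposite MvPolynomial

noncomputable section

namespace Groth.Agent.L13.Isotrivial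

variable {r : ℕ} {K : Type u} [Field K] {L : Type u} [Field L] {M : Type u} [Field M]

/-- coefficients along `φ`, the `i`-th coordinate scaled by `w i` -/
def scG (φ : K →+* L) (w : Fin (r + 1) → L) : CohB1.polyGrading r K →+*ᵍ CohB1.polyGrading r L :=
  { MvPolynomial.eval₂Hom ((C : L →+* MvPolynomial (Fin (r + 1)) L).comp φ) (fun i => C (w i) * X i) with
    map_mem := fun {i p} h => by
      rw [CohB1.polyGrading, mem_homogeneousSubmodule] at h ⊢
      have := h.eval₂ ((C : L →+* MvPolynomial (Fin (r + 1)) L).comp φ) (fun i => C (w i) * X i) (n := 1)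
        (fun x => isHomogeneous_C _ _) (fun j => (isHomogeneous_C _ (w j)).mul (isHomogeneous_X L j))
      simpa using this }

lemma scG_apply (φ : K →+* L) (w : Fin (r + 1) → L) (p : MvPolynomial (Fin (r + 1)) K) :
    scG φ w p = eval₂Hom ((C : L →+* MvPolynomial (Fin (r + 1)) L).comp φ) (fun i => C (w i) * X i) p := rfl

@[simp] lemma scG_X (φ : K →+* L) (w : Fin (r + 1) → L) (i : Fin (r + 1)) :
    scG φ w (X i) = C (w i) * X i := by simp [scG_apply]

@[simp] lemma scG_C (φ : K →+* L) (w : Fin (r + 1) → L) (a : K) : scG φ w (C a) = C (φ a) := by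
  simp [scG_apply]

lemma scG_irrelevant (φ : K →+* L) (w : Fin (r + 1) → L) (hw : ∀ i, w i ≠ 0) :
    HomogeneousIdeal.irrelevant (CohB1.polyGrading r L) ≤
      (HomogeneousIdeal.irrelevant (CohB1.polyGrading r K)).map (scG φ w) := by
  show (HomogeneousIdeal.irrelevant (CohB1.polyGrading r L)).toIdeal ≤
    ((HomogeneousIdeal.irrelevant (CohB1.polyGrading r K)).map (scG φ w)).toIdeal
  refine (Groth.L16.ProjSpace.irrelevant_le_span r L).trans (Ideal.span_le.2 ?_)
  rintro _ ⟨i, rfl⟩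
  have h : scG φ w (X i) ∈ ((HomogeneousIdeal.irrelevant (CohB1.polyGrading r K)).map (scG φ w)).toIdeal :=
    Ideal.mem_map_of_mem _ (HomogeneousIdeal.mem_irrelevant_of_mem _ one_pos (Groth.L16.ProjSpace.X_mem r K i))
  rw [scG_X] at h
  rw [SetLike.mem_coe, show (X i : MvPolynomial (Fin (r + 1)) L) = C (w i)⁻¹ * (C (w i) * X i) by
    rw [← mul_assoc, ← C_mul, inv_mul_cancel₀ (hw i), C_1, one_mul]]
  exact Ideal.mul_mem_left _ _ h

/-- The semilinear coordinate change. -/
def sc (φ : K →+* L) (w : Fin (r + 1) → L) (hw : ∀ i, w i ≠ 0) :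
    CohB1.ProjSpace r L ⟶ CohB1.ProjSpace r K :=
  Proj.map (scG φ w) (scG_irrelevant φ w hw)

lemma scG_comp (φ : K →+* L) (χ : L →+* M) (w : Fin (r + 1) → L) (v : Fin (r + 1) → M) :
    (scG χ v).comp (scG φ w) = scG (χ.comp φ) (fun i => χ (w i) * v i) := by
  have h : (eval₂Hom ((C : M →+* MvPolynomial (Fin (r + 1)) M).comp χ) (fun i => C (v i) * X i)).comp
      (eval₂Hom ((C : L →+* MvPolynomial (Fin (r + 1)) L).comp φ) (fun i => C (w i) * X i)) =
      eval₂Hom ((C : M →+* MvPolynomial (Fin (r + 1)) M).comp (χ.comp φ)) (fun i => C (χ (w i) * v i) * X i) := by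
    refine MvPolynomial.ringHom_ext (fun a => by simp) (fun i => by simp [mul_assoc])
  exact DFunLike.ext _ _ fun p => congr($h p)

lemma sc_comp (φ : K →+* L) (χ : L →+* M) (w : Fin (r + 1) → L) (hw : ∀ i, w i ≠ 0)
    (v : Fin (r + 1) → M) (hv : ∀ i, v i ≠ 0) :
    sc χ v hv ≫ sc φ w hw = sc (χ.comp φ) (fun i => χ (w i) * v i)
      (fun i => mul_ne_zero ((map_ne_zero χ).mpr (hw i)) (hv i)) := by
  unfold sc
  rw [← Proj.map_comp (scG φ w) (scG χ v)]
  congr 1
  exact scG_comp φ χ w v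

lemma sc_one (φ : K →+* L) :
    sc φ (fun _ : Fin (r + 1) => (1 : L)) (fun _ => one_ne_zero) = Groth.L16.ProjSpace.map r φ := by
  unfold sc Groth.L16.ProjSpace.map
  congr 1
  exact DFunLike.ext _ _ fun p => by
    rw [scG_apply, Groth.L16.ProjSpace.mapGraded_apply]
    exact congr($(MvPolynomial.ringHom_ext
      (f := eval₂Hom ((C : L →+* MvPolynomial (Fin (r + 1)) L).comp φ) (fun i => C (1 : L) * X i))
      (g := MvPolynomial.map φ) (fun a => by simp) (fun i => by simp)) p)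

lemma sc_id : sc (RingHom.id L) (fun _ : Fin (r + 1) => (1 : L)) (fun _ => one_ne_zero) = 𝟙 _ := by
  unfold sc
  refine Eq.trans ?_ (Proj.map_id (𝒜 := CohB1.polyGrading r L))
  congr 1
  exact DFunLike.ext _ _ fun p => by
    rw [scG_apply]
    exact congr($(MvPolynomial.ringHom_ext
      (f := eval₂Hom ((C : L →+* MvPolynomial (Fin (r + 1)) L).comp (RingHom.id L)) (fun i => C (1 : L) * X i))
      (g := RingHom.id _) (fun a => by simp) (fun i => by simp)) p)

lemma sc_congr {φ φ' : K →+* L} {w w' : Fin (r + 1) → L} (e : φ = φ') (e' : w = w') (hw : ∀ i, w i ≠ 0)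
    (hw' : ∀ i, w' i ≠ 0) : sc φ w hw = sc φ' w' hw' := by
  subst e; subst e'; rfl

instance isIso_sc_id (w : Fin (r + 1) → L) (hw : ∀ i, w i ≠ 0) : IsIso (sc (RingHom.id L) w hw) := by
  refine ⟨sc (RingHom.id L) (fun i => (w i)⁻¹) (fun i => inv_ne_zero (hw i)), ?_, ?_⟩ <;>
    rw [sc_comp, ← sc_id] <;> refine sc_congr (RingHom.id_comp _) (funext fun i => ?_) _ _ <;>
    simp [hw i]

lemma sc_eq (φ : K →+* L) (w : Fin (r + 1) → L) (hw : ∀ i, w i ≠ 0) :
    sc φ w hw = sc (RingHom.id L) w hw ≫ Groth.L16.ProjSpace.map r φ := by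
  rw [← sc_one, sc_comp]
  exact sc_congr (RingHom.id_comp _).symm (funext fun i => (one_mul _).symm) _ _

lemma sc_preimage (φ : K →+* L) (w : Fin (r + 1) → L) (hw : ∀ i, w i ≠ 0) (i : Fin (r + 1)) :
    sc φ w hw ⁻¹ᵁ LefPen.chart r K i = LefPen.chart r L i := by
  refine (Proj.map_preimage_basicOpen (scG φ w) (scG_irrelevant φ w hw) _).trans ?_
  rw [scG_X, Proj.basicOpen_mul]
  have h1 : Proj.basicOpen (CohB1.polyGrading r L) (C (w i)) = ⊤ := by
    refine top_le_iff.mp fun q _ => ?_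
    show C (w i) ∉ q.asHomogeneousIdeal
    intro hm
    exact q.isPrime.ne_top (Ideal.eq_top_of_isUnit_mem _ hm ((isUnit_iff_ne_zero.mpr (hw i)).map C))
  rw [h1, top_inf_eq]

lemma sc_id_toSpec (w : Fin (r + 1) → L) (hw : ∀ i, w i ≠ 0) :
    sc (RingHom.id L) w hw ≫ CohB1.ProjSpace.toSpec r L = CohB1.ProjSpace.toSpec r L := by
  refine (Proj.mapAffineOpenCover (scG (RingHom.id L) w) (scG_irrelevant _ w hw)).openCover.hom_ext _ _ fun s => ?_
  show _ ≫ sc (RingHom.id L) w hw ≫ _ = _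
  simp only [Scheme.AffineOpenCover.openCover_f, Proj.mapAffineOpenCover_f, sc, CohB1.ProjSpace.toSpec]
  rw [Proj.awayι_comp_map_assoc (scG (RingHom.id L) w) (scG_irrelevant _ w hw) s.1.2 _ s.2.2]
  erw [Proj.awayι_toSpecZero_assoc, Proj.awayι_toSpecZero_assoc]
  rw [← Spec.map_comp, ← Spec.map_comp, ← Spec.map_comp]
  congr 1
  refine CommRingCat.hom_ext (RingHom.ext fun a => ?_)
  refine HomogeneousLocalization.val_injective _ ?_
  show (HomogeneousLocalization.Away.map (scG (RingHom.id L) w) _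
    (HomogeneousLocalization.fromZeroRingHom _ _ _)).val = (HomogeneousLocalization.fromZeroRingHom _ _ _).val
  simp only [HomogeneousLocalization.fromZeroRingHom, RingHom.coe_mk, MonoidHom.coe_mk, OneHom.coe_mk]
  erw [HomogeneousLocalization.map_mk, HomogeneousLocalization.val_mk, HomogeneousLocalization.val_mk]
  rw [Localization.mk_eq_mk_iff, Localization.r_iff_exists]
  refine ⟨1, ?_⟩
  simp [scG_apply]
  exact bind₁_C_right _ a

/-- The transformed form. -/
def scForm (φ : K →+* L) (w : Fin (r + 1) → L) {d : ℕ} (G : LefPen.Form r K d) : LefPen.Form r L d :=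
  ⟨scG φ w G.1, (scG φ w).2 G.2⟩

/-- A constant, as a form of degree zero. -/
def constForm (r : ℕ) (c : L) : LefPen.Form r L 0 :=
  ⟨C c, (mem_homogeneousSubmodule _ _).mpr (isHomogeneous_C _ c)⟩

lemma dehom_val {d : ℕ} (G : LefPen.Form r L d) (i : Fin (r + 1))
    (q : LefPen.chart r L i) :
    ((LefPen.dehom G i).1 q).val = Localization.mk G.1
      (⟨X i ^ d, fun hm => q.2 (q.1.isPrime.mem_of_pow_mem d hm)⟩ : q.1.asHomogeneousIdeal.toIdeal.primeCompl) := by
  rw [LefPen.dehom]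
  erw [ProjectiveSpectrum.Proj.awayToSection_apply, HomogeneousLocalization.Away.val_mk]
  rw [Localization.mk_eq_mk', IsLocalization.map_mk', ← Localization.mk_eq_mk']
  rfl

lemma isUnit_dehom_const {c : L} (hc : c ≠ 0) (i : Fin (r + 1)) :
    IsUnit (LefPen.dehom (constForm r c) i) := by
  refine IsUnit.of_mul_eq_one (LefPen.dehom (constForm r c⁻¹) i) ?_
  refine Subtype.ext (funext fun q => HomogeneousLocalization.val_injective _ ?_)
  erw [HomogeneousLocalization.val_mul, HomogeneousLocalization.val_one, dehom_val, dehom_val]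
  rw [Localization.mk_mul, ← Localization.mk_one, Localization.mk_eq_mk_iff, Localization.r_iff_exists]
  exact ⟨1, by simp [constForm, ← C_mul, mul_inv_cancel₀ hc]⟩

lemma sc_appLE_dehom (φ : K →+* L) (w : Fin (r + 1) → L) (hw : ∀ i, w i ≠ 0) {d : ℕ}
    (G : LefPen.Form r K d) (i : Fin (r + 1)) (e : LefPen.chart r L i ≤ sc φ w hw ⁻¹ᵁ LefPen.chart r K i) :
    (sc φ w hw).appLE (LefPen.chart r K i) (LefPen.chart r L i) e (LefPen.dehom G i) =
      LefPen.dehom (constForm r ((w i ^ d)⁻¹)) i * LefPen.dehom (scForm φ w G) i := by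
  refine Subtype.ext (funext fun q => HomogeneousLocalization.val_injective _ ?_)
  erw [HomogeneousLocalization.val_mul, dehom_val, dehom_val]
  show (HomogeneousLocalization.localRingHom (scG φ w) _ q.1.1.1 rfl ((LefPen.dehom G i).1 ⟨_, e q.2⟩)).val = _
  erw [HomogeneousLocalization.val_localRingHom, dehom_val]
  erw [Localization.localRingHom_mk]
  rw [Localization.mk_mul, Localization.mk_eq_mk_iff, Localization.r_iff_exists]
  refine ⟨1, ?_⟩
  have h1 : (scG φ w) (X i ^ d) = C (w i ^ d) * X i ^ d := by rw [map_pow, scG_X, mul_pow, C_pow]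
  show 1 * ((X i ^ 0 * X i ^ d) * scG φ w G.1) = 1 * ((scG φ w) (X i ^ d) * (C (w i ^ d)⁻¹ * scG φ w G.1))
  rw [h1]
  calc _ = (C (w i ^ d * (w i ^ d)⁻¹) * X i ^ d) * scG φ w G.1 * 1 := by
        rw [mul_inv_cancel₀ (pow_ne_zero _ (hw i)), C_1]; ring
    _ = _ := by rw [C_mul]; ring

theorem hypIdeal_le_ker_iff {d : ℕ} (G : LefPen.Form r K d) {T : Scheme.{u}} (h : T ⟶ CohB1.ProjSpace r K) :
    LefPen.hypIdeal G ≤ h.ker ↔ ∀ i, h.app (LefPen.chart r K i) (LefPen.dehom G i) = 0 := by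
  let U : Fin (r + 1) → (CohB1.ProjSpace r K).affineOpens := fun i =>
    ⟨LefPen.chart r K i, Groth.L21.PlaneCurve.isAffineOpen_chart i⟩
  constructor
  · intro hle i
    have h1 : LefPen.dehom G i ∈ h.ker.ideal (U i) :=
      hle (U i) (by rw [Groth.L21.PlaneCurve.hypIdeal_chart]; exact Ideal.mem_span_singleton_self _)
    exact h.ideal_ker_le (U i) h1
  · intro H
    refine Scheme.IdealSheafData.le_ofIdeals_iff.mpr fun W a ha => ?_
    rw [RingHom.mem_ker]
    have hfam : a ∈ LefPen.hypFamily G W := Scheme.IdealSheafData.ideal_ofIdeals_le _ _ ha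
    refine TopCat.Sheaf.eq_of_locally_eq' (F := T.sheaf) (fun i : Fin (r + 1) => h ⁻¹ᵁ (W.1 ⊓ LefPen.chart r K i))
      (h ⁻¹ᵁ W.1) (fun i => homOfLE (h.preimage_mono inf_le_left)) ?_ _ _ fun i => ?_
    · intro x hx
      obtain ⟨i, hi⟩ := Groth.L21.PlaneCurve.exists_mem_chart (h x)
      exact Opens.mem_iSup.mpr ⟨i, hx, hi⟩
    · obtain ⟨b, hb⟩ := Ideal.mem_span_singleton'.mp (Ideal.mem_comap.mp (Ideal.mem_iInf.mp hfam i))
      rw [map_zero]
      refine (congr($(h.naturality (homOfLE (inf_le_left : W.1 ⊓ LefPen.chart r K i ≤ W.1)).op) a)).symm.trans ?_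
      refine (congrArg (h.app _) hb.symm).trans ?_
      rw [map_mul]
      refine mul_eq_zero_of_right _ ?_
      refine (congr($(h.naturality (homOfLE (inf_le_right : W.1 ⊓ LefPen.chart r K i ≤ LefPen.chart r K i)).op)
        (LefPen.dehom G i))).trans ?_
      refine (congrArg (T.presheaf.map _).hom (H i)).trans ?_
      exact map_zero _

/-- The hypersurface, as a scheme over the ground field. -/
abbrev hypHom {d : ℕ} (G : LefPen.Form r K d) :
    (LefPen.hypIdeal G).subscheme ⟶ Spec (CommRingCat.of K) :=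
  (LefPen.hypIdeal G).subschemeι ≫ CohB1.ProjSpace.toSpec r K

theorem factors_iff {d : ℕ} (G : LefPen.Form r K d) {T : Scheme.{u}} (h : T ⟶ CohB1.ProjSpace r K) :
    (∃ h' : T ⟶ (LefPen.hypIdeal G).subscheme, h' ≫ (LefPen.hypIdeal G).subschemeι = h) ↔
      ∀ i, h.app (LefPen.chart r K i) (LefPen.dehom G i) = 0 := by
  rw [← hypIdeal_le_ker_iff]
  constructor
  · rintro ⟨h', rfl⟩
    exact (Scheme.IdealSheafData.ker_subschemeι _).ge.trans (Scheme.Hom.le_ker_comp _ _)
  · intro hle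
    exact ⟨IsClosedImmersion.lift _ h ((Scheme.IdealSheafData.ker_subschemeι _).le.trans hle),
      IsClosedImmersion.lift_fac _ _ _⟩

theorem scForm_factors (φ : K →+* L) (w : Fin (r + 1) → L) (hw : ∀ i, w i ≠ 0) {d : ℕ}
    (G : LefPen.Form r K d) {T : Scheme.{u}} (h : T ⟶ CohB1.ProjSpace r L) :
    (∀ i, (h ≫ sc φ w hw).app (LefPen.chart r K i) (LefPen.dehom G i) = 0) ↔
      ∀ i, h.app (LefPen.chart r L i) (LefPen.dehom (scForm φ w G) i) = 0 := by
  refine forall_congr' fun i => ?_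
  have e : LefPen.chart r L i ≤ sc φ w hw ⁻¹ᵁ LefPen.chart r K i := (sc_preimage φ w hw i).ge
  have e' : h ⁻¹ᵁ LefPen.chart r L i = (h ≫ sc φ w hw) ⁻¹ᵁ LefPen.chart r K i := by
    rw [Scheme.Hom.comp_preimage, sc_preimage]
  have h1 : (h ≫ sc φ w hw).appLE (LefPen.chart r K i) (h ⁻¹ᵁ LefPen.chart r L i) e'.le (LefPen.dehom G i) =
      h.app (LefPen.chart r L i) (LefPen.dehom (constForm r ((w i ^ d)⁻¹)) i) *
        h.app (LefPen.chart r L i) (LefPen.dehom (scForm φ w G) i) := by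
    rw [← Scheme.Hom.appLE_comp_appLE h (sc φ w hw) _ (LefPen.chart r L i) _ e le_rfl, CommRingCat.comp_apply,
      sc_appLE_dehom φ w hw G i e, ← map_mul, Scheme.Hom.app_eq_appLE]
  have hu : IsUnit (h.app (LefPen.chart r L i) (LefPen.dehom (constForm r ((w i ^ d)⁻¹)) i)) :=
    (isUnit_dehom_const (inv_ne_zero (pow_ne_zero _ (hw i))) i).map _
  have h2 : ∀ (W : T.Opens) (eq : W = (h ≫ sc φ w hw) ⁻¹ᵁ LefPen.chart r K i),
      (h ≫ sc φ w hw).appLE (LefPen.chart r K i) W eq.le (LefPen.dehom G i) = 0 ↔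
        (h ≫ sc φ w hw).app (LefPen.chart r K i) (LefPen.dehom G i) = 0 := by
    rintro W rfl
    rw [Scheme.Hom.app_eq_appLE]
  rw [← h2 _ e', h1, hu.mul_right_eq_zero]

/-- Base change of a hypersurface along a semilinear diagonal coordinate change. -/
theorem exists_isPullback_hyp (φ : K →+* L) (w : Fin (r + 1) → L) (hw : ∀ i, w i ≠ 0) {d : ℕ}
    (G : LefPen.Form r K d) :
    ∃ g : (LefPen.hypIdeal (scForm φ w G)).subscheme ⟶ (LefPen.hypIdeal G).subscheme,
      IsPullback g (hypHom (scForm φ w G)) (hypHom G) (Spec.map (CommRingCat.ofHom φ)) := by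
  have hP : IsPullback (sc φ w hw) (CohB1.ProjSpace.toSpec r L) (CohB1.ProjSpace.toSpec r K)
      (Spec.map (CommRingCat.ofHom φ)) := by
    rw [sc_eq]
    have h1 : IsPullback (sc (RingHom.id L) w hw) (CohB1.ProjSpace.toSpec r L) (CohB1.ProjSpace.toSpec r L) (𝟙 _) :=
      IsPullback.of_horiz_isIso ⟨by rw [sc_id_toSpec, Category.comp_id]⟩
    simpa using h1.paste_horiz (Groth.L16.ProjSpace.isPullback_map r φ)
  set ι' := (LefPen.hypIdeal (scForm φ w G)).subschemeι with hι'
  set ι := (LefPen.hypIdeal G).subschemeι with hι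
  obtain ⟨g, hg⟩ := (factors_iff G (ι' ≫ sc φ w hw)).mpr ((scForm_factors φ w hw G ι').mpr
    ((factors_iff (scForm φ w G) ι').mp ⟨𝟙 _, Category.id_comp _⟩))
  refine ⟨g, ?_⟩
  have hQ : IsPullback g ι' ι (sc φ w hw) := by
    refine ⟨⟨hg⟩, ⟨PullbackCone.IsLimit.mk _ (fun c => ?_) (fun c => ?_) (fun c => ?_) (fun c m hm1 hm2 => ?_)⟩⟩
    · exact ((factors_iff (scForm φ w G) c.snd).mpr ((scForm_factors φ w hw G c.snd).mp
        ((factors_iff G _).mp ⟨c.fst, c.condition⟩))).choose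
    · rw [← cancel_mono ι, Category.assoc, hg, ← Category.assoc, hι', Exists.choose_spec
        ((factors_iff (scForm φ w G) c.snd).mpr ((scForm_factors φ w hw G c.snd).mp
        ((factors_iff G _).mp ⟨c.fst, c.condition⟩))), c.condition]
    · exact Exists.choose_spec ((factors_iff (scForm φ w G) c.snd).mpr ((scForm_factors φ w hw G c.snd).mp
        ((factors_iff G _).mp ⟨c.fst, c.condition⟩)))
    · rw [← cancel_mono ι', hι', Exists.choose_spec ((factors_iff (scForm φ w G) c.snd).mpr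
        ((scForm_factors φ w hw G c.snd).mp ((factors_iff G _).mp ⟨c.fst, c.condition⟩)))]
      exact hm2
  exact hQ.paste_vert hP

end Groth.Agent.L13.Isotrivial
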